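import Mathlib

/-!
# Fixed point free operators of prime order over `𝔽_p`

If the semi-linear symmetries of an operator `T` of prime order `q` are transitive on nonzero
vectors and reach every power of `T`, then `p` is a primitive root modulo `q`, and conversely.
-/

set_option autoImplicit false

namespace Cfsg.Agent.CyclicModule

open Module

variable {p : ℕ} [Fact p.Prime] {V : Type*} [AddCommGroup V] [Module (ZMod p) V]

/-- The algebra generated by the operator. -/
abbrev Alg (T : End (ZMod p) V) : Subalgebra (ZMod p) (End (ZMod p) V) :=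
  Algebra.adjoin (ZMod p) ({T} : Set (End (ZMod p) V))

/-- The generator of `Alg T`. -/
abbrev gen (T : End (ZMod p) V) : Alg T := ⟨T, Algebra.subset_adjoin rfl⟩

theorem alg_comm {T : End (ZMod p) V} {e f : End (ZMod p) V} (he : e ∈ Alg T) (hf : f ∈ Alg T)
    (v : V) : e (f v) = f (e v) :=
  congrArg (fun x : Alg T => (x : End (ZMod p) V) v) (mul_comm (⟨e, he⟩ : Alg T) ⟨f, hf⟩)

/-- Conjugation by a linear automorphism. -/
def conjHom (φ : V ≃ₗ[ZMod p] V) : End (ZMod p) V →ₐ[ZMod p] End (ZMod p) V where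
  toFun e := φ.toLinearMap.comp (e.comp φ.symm.toLinearMap)
  map_one' := LinearMap.ext fun v => by simp
  map_mul' e f := LinearMap.ext fun v => by simp
  map_zero' := LinearMap.ext fun v => by simp
  map_add' e f := LinearMap.ext fun v => by simp
  commutes' c := LinearMap.ext fun v => by simp [Module.algebraMap_end_apply]

theorem conjHom_apply (φ : V ≃ₗ[ZMod p] V) (e : End (ZMod p) V) (v : V) :
    conjHom φ e v = φ (e (φ.symm v)) := rfl

theorem conjHom_injective (φ : V ≃ₗ[ZMod p] V) : Function.Injective (conjHom φ) := by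
  intro a b h
  refine LinearMap.ext fun v => φ.injective ?_
  have h1 := LinearMap.congr_fun h (φ v)
  rwa [conjHom_apply, conjHom_apply, LinearEquiv.symm_apply_apply] at h1

theorem conj_mem {T : End (ZMod p) V} {φ : V ≃ₗ[ZMod p] V} {j : ℕ}
    (hφ : ∀ x, φ (T x) = (T ^ j) (φ x)) {e : End (ZMod p) V} (he : e ∈ Alg T) :
    conjHom φ e ∈ Alg T := by
  have h : Alg T ≤ (Alg T).comap (conjHom φ) := by
    refine Algebra.adjoin_le fun x hx => ?_
    rw [Set.mem_singleton_iff.1 hx]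
    show conjHom φ T ∈ Alg T
    have e1 : conjHom φ T = T ^ j := LinearMap.ext fun v => by
      rw [conjHom_apply, hφ, LinearEquiv.apply_symm_apply]
    rw [e1]
    exact (Alg T).pow_mem (gen T).2 j
  exact h he

section Forward

variable [Finite V] (T : End (ZMod p) V)

/-- The cyclic submodule generated by a vector. -/
def cyc (v : V) : Set V := (fun e : Alg T => (e : End (ZMod p) V) v) '' Set.univ

theorem mem_cyc_self (v : V) : v ∈ cyc T v := ⟨1, Set.mem_univ _, rfl⟩

theorem mem_cyc {v w : V} : w ∈ cyc T v ↔ ∃ e ∈ Alg T, e v = w := by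
  constructor
  · rintro ⟨e, -, rfl⟩; exact ⟨e, e.2, rfl⟩
  · rintro ⟨e, he, rfl⟩; exact ⟨⟨e, he⟩, Set.mem_univ _, rfl⟩

theorem ncard_cyc_le {φ : V ≃ₗ[ZMod p] V} {j : ℕ} (hφ : ∀ x, φ (T x) = (T ^ j) (φ x)) (v : V) :
    (cyc T v).ncard ≤ (cyc T (φ v)).ncard := by
  refine Set.ncard_le_ncard_of_injOn φ (fun w hw => ?_) φ.injective.injOn (Set.toFinite _)
  obtain ⟨e, he, rfl⟩ := (mem_cyc T).1 hw
  refine (mem_cyc T).2 ⟨_, conj_mem hφ he, ?_⟩
  rw [conjHom_apply, LinearEquiv.symm_apply_apply]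

theorem mem_cyc_symm
    (htrans : ∀ v w : V, v ≠ 0 → w ≠ 0 → ∃ φ : V ≃ₗ[ZMod p] V,
      (∃ j : ℕ, ∀ x, φ (T x) = (T ^ j) (φ x)) ∧ φ v = w)
    {v w : V} (hv : v ≠ 0) (hw : w ≠ 0) (h : w ∈ cyc T v) : v ∈ cyc T w := by
  obtain ⟨e, he, rfl⟩ := (mem_cyc T).1 h
  have hsub : cyc T (e v) ⊆ cyc T v := by
    intro x hx
    obtain ⟨f, hf, rfl⟩ := (mem_cyc T).1 hx
    exact (mem_cyc T).2 ⟨f * e, mul_mem hf he, rfl⟩
  obtain ⟨φ, ⟨j, hj⟩, hφ⟩ := htrans v (e v) hv hw
  have h2 := ncard_cyc_le T hj v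
  rw [hφ] at h2
  rw [Set.eq_of_subset_of_ncard_le hsub h2 (Set.toFinite _)]
  exact mem_cyc_self T v

theorem eq_zero_of_apply_eq_zero
    (htrans : ∀ v w : V, v ≠ 0 → w ≠ 0 → ∃ φ : V ≃ₗ[ZMod p] V,
      (∃ j : ℕ, ∀ x, φ (T x) = (T ^ j) (φ x)) ∧ φ v = w)
    {e : End (ZMod p) V} (he : e ∈ Alg T) {u : V} (hu : u ≠ 0) (h : e u = 0) : e = 0 := by
  refine LinearMap.ext fun v => ?_
  rw [LinearMap.zero_apply]
  by_cases hv : v ∈ cyc T u
  · obtain ⟨f, hf, rfl⟩ := (mem_cyc T).1 hv
    rw [alg_comm he hf, h, map_zero]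
  by_contra hev
  have hv0 : v ≠ 0 := fun e0 => hev (by rw [e0, map_zero])
  have hs : e (u + v) = e v := by rw [map_add, h, zero_add]
  have hs0 : u + v ≠ 0 := fun e0 => hev (by rw [← hs, e0, map_zero])
  have h1 : v ∈ cyc T (e v) := mem_cyc_symm T htrans hv0 hev ((mem_cyc T).2 ⟨e, he, rfl⟩)
  have h2 : u + v ∈ cyc T (e v) :=
    mem_cyc_symm T htrans hs0 hev ((mem_cyc T).2 ⟨e, he, hs⟩)
  obtain ⟨a, ha, hav⟩ := (mem_cyc T).1 h1
  obtain ⟨b, hb, hbv⟩ := (mem_cyc T).1 h2
  have h3 : u ∈ cyc T (e v) := (mem_cyc T).2 ⟨b - a, sub_mem hb ha, by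
    rw [LinearMap.sub_apply, hbv, hav, add_sub_cancel_right]⟩
  have h4 := mem_cyc_symm T htrans hev hu h3
  obtain ⟨c, hc, hcu⟩ := (mem_cyc T).1 h4
  exact hv ((mem_cyc T).2 ⟨a * c, mul_mem ha hc, by rw [Module.End.mul_apply, hcu, hav]⟩)

/-- The primitive root conclusion. -/
theorem orderOf_eq_of_transitive [Nontrivial V] {q : ℕ} [Fact q.Prime] (hpq : p ≠ q)
    (hTq : T ^ q = 1) (hT1 : T ≠ 1)
    (htrans : ∀ v w : V, v ≠ 0 → w ≠ 0 → ∃ φ : V ≃ₗ[ZMod p] V,
      (∃ j : ℕ, ∀ x, φ (T x) = (T ^ j) (φ x)) ∧ φ v = w)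
    (hpow : ∀ j : ℕ, ¬ q ∣ j → ∃ φ : V ≃ₗ[ZMod p] V, ∀ x, φ (T x) = (T ^ j) (φ x)) :
    orderOf (p : ZMod q) = q - 1 := by
  classical
  haveI : Finite (End (ZMod p) V) := Finite.of_injective (fun f => (f : V → V)) DFunLike.coe_injective
  haveI : IsDomain (Alg T) := by
    haveI : Nontrivial (Alg T) := ⟨⟨0, 1, fun h => by
      obtain ⟨v, hv⟩ := exists_ne (0 : V)
      exact hv (congrArg (fun x : Alg T => (x : End (ZMod p) V) v) h).symm⟩⟩
    haveI : NoZeroDivisors (Alg T) := ⟨fun {e f} hef => by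
      by_contra hcon
      push Not at hcon
      obtain ⟨he, hf⟩ := hcon
      obtain ⟨u, hu⟩ : ∃ u, (f : End (ZMod p) V) u ≠ 0 := by
        by_contra hall
        push Not at hall
        exact hf (Subtype.ext (LinearMap.ext hall))
      exact he (Subtype.ext (eq_zero_of_apply_eq_zero T htrans e.2 hu
        (congrArg (fun x : Alg T => (x : End (ZMod p) V) u) hef)))⟩
    exact NoZeroDivisors.to_isDomain _
  letI : Field (Alg T) := (Finite.isDomain_to_isField (Alg T)).toField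
  haveI := Fintype.ofFinite (Alg T)
  set r := orderOf (p : ZMod q) with hr
  have hp0 : (p : ZMod q) ≠ 0 := by
    rw [Ne, ZMod.natCast_eq_zero_iff]
    exact fun h => hpq ((Nat.prime_dvd_prime_iff_eq Fact.out Fact.out).1 h).symm
  have hrle : r ∣ q - 1 := orderOf_dvd_of_pow_eq_one (ZMod.pow_card_sub_one_eq_one hp0)
  have hq1 : 0 < q - 1 := Nat.sub_pos_of_lt (Fact.out : q.Prime).one_lt
  have hr0 : 0 < r := Nat.pos_of_dvd_of_pos hrle hq1
  -- every element is fixed by the `r`-th power of Frobenius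
  haveI : CharP (Alg T) p := charP_of_injective_algebraMap' (ZMod p) p
  have hgen : (gen T) ^ q = 1 := Subtype.ext hTq
  have hmod : p ^ r % q = 1 := by
    have h1 : ((p ^ r : ℕ) : ZMod q) = ((1 : ℕ) : ZMod q) := by
      rw [Nat.cast_pow, hr, pow_orderOf_eq_one, Nat.cast_one]
    rw [ZMod.natCast_eq_natCast_iff'] at h1
    rwa [Nat.one_mod_eq_one.2 (Fact.out : q.Prime).ne_one] at h1
  have hfix : ∀ e : Alg T, e ^ p ^ r = e := by
    rintro ⟨e, he⟩
    induction he using Algebra.adjoin_induction with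
    | mem x hx =>
      have e0 : (⟨x, Algebra.subset_adjoin hx⟩ : Alg T) = gen T :=
        Subtype.ext (Set.mem_singleton_iff.1 hx)
      rw [e0]
      rw [← Nat.div_add_mod (p ^ r) q, hmod, pow_add, pow_mul, hgen, one_pow, one_mul, pow_one]
    | algebraMap c =>
      show (algebraMap (ZMod p) (Alg T) c) ^ p ^ r = _
      rw [← map_pow, ZMod.pow_card_pow]
      rfl
    | add x y hx hy ihx ihy =>
      show ((⟨x, hx⟩ : Alg T) + ⟨y, hy⟩) ^ p ^ r = ⟨x, hx⟩ + ⟨y, hy⟩
      rw [add_pow_char_pow, ihx, ihy]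
    | mul x y hx hy ihx ihy =>
      show ((⟨x, hx⟩ : Alg T) * ⟨y, hy⟩) ^ p ^ r = ⟨x, hx⟩ * ⟨y, hy⟩
      rw [mul_pow, ihx, ihy]
  have hcardle : Fintype.card (Alg T) ≤ p ^ r := by
    have h1 : 1 < p ^ r := Nat.one_lt_pow hr0.ne' (Fact.out : p.Prime).one_lt
    have h2 := Polynomial.card_le_degree_of_subset_roots
      (p := (Polynomial.X ^ (p ^ r) - Polynomial.X : Polynomial (Alg T))) (Z := Finset.univ)
      (fun e _ => by
        rw [Polynomial.mem_roots (FiniteField.X_pow_card_sub_X_ne_zero (Alg T) h1), Polynomial.IsRoot,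
          Polynomial.eval_sub, Polynomial.eval_pow, Polynomial.eval_X, hfix, sub_self])
    rwa [FiniteField.X_pow_card_sub_X_natDegree_eq (Alg T) h1] at h2
  have hfin : finrank (ZMod p) (Alg T) ≤ r := by
    rw [Module.card_eq_pow_finrank (K := ZMod p), ZMod.card] at hcardle
    exact (Nat.pow_le_pow_iff_right (Fact.out : p.Prime).one_lt).1 hcardle
  -- the automorphisms
  have hord : orderOf (gen T) = q :=
    orderOf_eq_prime hgen fun h => hT1 (congrArg Subtype.val h)
  have hj : ∀ i : Fin (q - 1), ¬ q ∣ (i : ℕ) + 1 := fun i h => by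
    have := Nat.le_of_dvd (Nat.succ_pos _) h
    have := i.2
    omega
  choose φ hφ using fun i : Fin (q - 1) => hpow _ (hj i)
  let σ : Fin (q - 1) → (Alg T ≃ₐ[ZMod p] Alg T) := fun i =>
    AlgEquiv.ofBijective
      (((conjHom (φ i)).comp (Alg T).val).codRestrict (Alg T)
        fun e => conj_mem (hφ i) e.2)
      (Finite.injective_iff_bijective.1 fun a b hab =>
        Subtype.ext (conjHom_injective (φ i) (congrArg Subtype.val hab)))
  have hσ : ∀ i, σ i (gen T) = (gen T) ^ ((i : ℕ) + 1) := fun i => Subtype.ext (LinearMap.ext fun v => by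
    show φ i (T ((φ i).symm v)) = _
    rw [hφ i, LinearEquiv.apply_symm_apply]
    rfl)
  have hinj : Function.Injective σ := by
    intro a b hab
    have h : (gen T) ^ ((a : ℕ) + 1) = (gen T) ^ ((b : ℕ) + 1) := by rw [← hσ a, ← hσ b, hab]
    have h2 := pow_injOn_Iio_orderOf (x := gen T)
      (by rw [Set.mem_Iio, hord]; have := a.2; omega) (by rw [Set.mem_Iio, hord]; have := b.2; omega) h
    exact Fin.ext (by omega)
  have hge : q - 1 ≤ finrank (ZMod p) (Alg T) := by
    have := (Fintype.card_le_of_injective σ hinj).trans AlgEquiv.card_le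
    rwa [Fintype.card_fin] at this
  exact le_antisymm (Nat.le_of_dvd hq1 hrle) (hge.trans hfin)

end Forward

section Converse

variable (T : End (ZMod p) V) {q : ℕ} [Fact q.Prime]

theorem isField_alg [Nontrivial V] (hqp : ¬ p ∣ q) (hTq : T ^ q = 1) (hfpf : ∀ v, T v = v → v = 0)
    (hroot : orderOf (p : ZMod q) = q - 1) : IsField (Alg T) := by
  have hirr : Irreducible (Polynomial.cyclotomic q (ZMod p)) := by
    refine ZMod.irreducible_of_dvd_cyclotomic_of_natDegree hqp dvd_rfl ?_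
    rw [Polynomial.natDegree_cyclotomic, Nat.totient_prime Fact.out, ← hroot,
      ← orderOf_units, ZMod.coe_unitOfCoprime]
  have hzero : Polynomial.aeval T (Polynomial.cyclotomic q (ZMod p)) = 0 := by
    refine LinearMap.ext fun v => hfpf _ ?_
    have h1 : Polynomial.aeval T ((Polynomial.X - 1) * Polynomial.cyclotomic q (ZMod p)) = 0 := by
      rw [mul_comm, Polynomial.cyclotomic_prime_mul_X_sub_one]
      simp [hTq]
    have h2 := LinearMap.congr_fun h1 v
    rw [map_mul, Module.End.mul_apply, map_sub, Polynomial.aeval_X, map_one, LinearMap.sub_apply,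
      Module.End.one_apply, LinearMap.zero_apply, sub_eq_zero] at h2
    exact h2
  refine ⟨⟨0, 1, fun h => ?_⟩, mul_comm, fun {e} he => ?_⟩
  · obtain ⟨v, hv⟩ := exists_ne (0 : V)
    exact hv (congrArg (fun x : Alg T => (x : End (ZMod p) V) v) h).symm
  · obtain ⟨g, hg⟩ : ∃ g, Polynomial.aeval T g = (e : End (ZMod p) V) :=
      (AlgHom.mem_range _).1 (SetLike.le_def.1 (le_of_eq (Algebra.adjoin_singleton_eq_range_aeval (ZMod p) T)) e.2)
    have hndvd : ¬ Polynomial.cyclotomic q (ZMod p) ∣ g := fun ⟨k, hk⟩ => he (Subtype.ext (by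
      rw [← hg, hk, map_mul, hzero, zero_mul]; rfl))
    obtain ⟨a, b, hab⟩ := hirr.coprime_iff_not_dvd.2 hndvd
    refine ⟨⟨Polynomial.aeval T b, Polynomial.aeval_mem_adjoin_singleton _ _⟩, Subtype.ext ?_⟩
    have h := congrArg (Polynomial.aeval T) hab
    rw [map_add, map_mul, map_mul, hzero, mul_zero, zero_add, map_one, hg] at h
    rw [Subalgebra.coe_mul, Subalgebra.coe_one]
    rw [← h, ← hg, ← map_mul, ← map_mul, mul_comm]

/-- Transitivity of the centralizer of `T`. -/
theorem exists_commuting [Nontrivial V] (hqp : ¬ p ∣ q) (hTq : T ^ q = 1) (hfpf : ∀ v, T v = v → v = 0)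
    (hroot : orderOf (p : ZMod q) = q - 1) {v w : V} (hv : v ≠ 0) (hw : w ≠ 0) :
    ∃ φ : V ≃+ V, (∀ x, φ (T x) = T (φ x)) ∧ φ v = w := by
  classical
  letI : Field (Alg T) := (isField_alg T hqp hTq hfpf hroot).toField
  obtain ⟨ψ, hψ⟩ : ∃ ψ : V ≃ₗ[Alg T] V, ψ v = w := by
    by_cases hmem : w ∈ Submodule.span (Alg T) ({v} : Set V)
    · obtain ⟨c, hc⟩ := Submodule.mem_span_singleton.1 hmem
      have hc0 : c ≠ 0 := fun h => hw (by rw [← hc, h, zero_smul])
      exact ⟨LinearEquiv.smulOfUnit (Units.mk0 c hc0), hc⟩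
    · obtain ⟨g, hgw, hgv⟩ := Submodule.exists_dual_map_eq_bot_of_notMem hmem inferInstance
      obtain ⟨h, hh, -⟩ := Submodule.exists_dual_map_eq_bot_of_notMem
        (show v ∉ (⊥ : Submodule (Alg T) V) from fun e => hv ((Submodule.mem_bot _).1 e)) inferInstance
      have hgv0 : g v = 0 := by
        have := Submodule.mem_map_of_mem (f := g) (Submodule.mem_span_singleton_self (R := Alg T) v)
        rw [hgv] at this
        exact (Submodule.mem_bot _).1 this
      let f : V →ₗ[Alg T] Alg T := (h v)⁻¹ • h + ((1 - (h v)⁻¹ * h w) / g w) • g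
      have hfv : f v = 1 := by simp [f, hgv0, hh]
      have hfw : f w = 1 := by
        simp only [f, LinearMap.add_apply, LinearMap.smul_apply, smul_eq_mul]
        rw [div_mul_cancel₀ _ hgw, add_sub_cancel]
      have hfd : f (w - v) = 0 := by rw [map_sub, hfv, hfw, sub_self]
      exact ⟨LinearEquiv.transvection hfd, by
        rw [LinearEquiv.transvection.apply, hfv, one_smul, add_sub_cancel]⟩
  exact ⟨ψ.toAddEquiv, fun x => map_smul ψ (gen T) x, hψ⟩

/-- Semi-linear automorphisms. -/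
theorem exists_twist [Nontrivial V] [Finite V] (hqp : ¬ p ∣ q) (hTq : T ^ q = 1)
    (hfpf : ∀ v, T v = v → v = 0)
    (hroot : orderOf (p : ZMod q) = q - 1) {j : ℕ} (hj : ¬ q ∣ j) :
    ∃ φ : V ≃+ V, ∀ x, φ (T x) = (T ^ j) (φ x) := by
  classical
  obtain ⟨k, hk⟩ : ∃ k : ℕ, (p : ZMod q) ^ k = (j : ZMod q) := by
    let u : (ZMod q)ˣ := ZMod.unitOfCoprime p ((Fact.out : p.Prime).coprime_iff_not_dvd.2 hqp)
    have hu : orderOf u = Nat.card (ZMod q)ˣ := by
      rw [← orderOf_units, ZMod.coe_unitOfCoprime, hroot, Nat.card_eq_fintype_card, ZMod.card_units]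
    have hj0 : (j : ZMod q) ≠ 0 := by rwa [Ne, ZMod.natCast_eq_zero_iff]
    have hmem : Units.mk0 _ hj0 ∈ Subgroup.zpowers u := by
      rw [(Subgroup.zpowers u).eq_top_of_card_eq (by rw [Nat.card_zpowers, hu])]
      trivial
    obtain ⟨k, hk⟩ := mem_powers_iff_mem_zpowers.2 hmem
    exact ⟨k, by simpa [u] using congrArg Units.val hk⟩
  letI : Field (Alg T) := (isField_alg T hqp hTq hfpf hroot).toField
  haveI : CharP (Alg T) p := charP_of_injective_algebraMap' (ZMod p) p
  haveI : ExpChar (Alg T) p := ExpChar.prime Fact.out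
  haveI : Finite (End (ZMod p) V) := Finite.of_injective (fun f => (f : V → V)) DFunLike.coe_injective
  let σ : Alg T →+* Alg T := iterateFrobenius (Alg T) p k
  have hσb : Function.Bijective σ := Finite.injective_iff_bijective.1 σ.injective
  let s : Alg T ≃+* Alg T := RingEquiv.ofBijective σ hσb
  have hmod : p ^ k % q = j % q := by
    have h1 : ((p ^ k : ℕ) : ZMod q) = (j : ZMod q) := by rw [Nat.cast_pow, hk]
    exact (ZMod.natCast_eq_natCast_iff' _ _ _).1 h1
  have hσT : s (gen T) = (gen T) ^ j := by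
    show σ (gen T) = _
    simp only [σ, iterateFrobenius_def]
    rw [← Nat.div_add_mod (p ^ k) q, hmod, pow_add, pow_mul,
      show (gen T) ^ q = 1 from Subtype.ext hTq, one_pow, one_mul]
    conv_rhs => rw [← Nat.div_add_mod j q]
    rw [pow_add, pow_mul, show (gen T) ^ q = 1 from Subtype.ext hTq, one_pow, one_mul]
  let b := Module.Free.chooseBasis (Alg T) V
  let φ : V ≃+ V := b.repr.toAddEquiv.trans
    ((Finsupp.mapRange.addEquiv s.toAddEquiv).trans b.repr.symm.toAddEquiv)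
  refine ⟨φ, fun x => ?_⟩
  show b.repr.symm (Finsupp.mapRange s (map_zero s) (b.repr (gen T • x))) =
    ((gen T) ^ j : Alg T) • b.repr.symm (Finsupp.mapRange s (map_zero s) (b.repr x))
  rw [← map_smul, map_smul b.repr]
  congr 1
  ext i
  simp [hσT]

end Converse

end Cfsg.Agent.CyclicModule
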